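import Mathlib

/-! Graded Lie rings with trivial component of degree zero: solvability and nilpotency. -/

set_option autoImplicit false

namespace CfsgLib.LieFpf

variable {V : Type*} [LieRing V] {n : ℕ}

/-- The family of subgroups spanned by brackets of two families. -/
def br (F H : ZMod n → AddSubgroup V) : ZMod n → AddSubgroup V := fun s =>
  AddSubgroup.closure {z | ∃ a b, a + b = s ∧ ∃ x ∈ F a, ∃ y ∈ H b, ⁅x, y⁆ = z}

/-- A graded family with trivial component in degree zero. -/
structure Graded (S : ZMod n → AddSubgroup V) : Prop where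
  lie_mem : ∀ a b : ZMod n, ∀ x ∈ S a, ∀ y ∈ S b, ⁅x, y⁆ ∈ S (a + b)
  zero_eq : S 0 = ⊥

theorem mem_br {F H : ZMod n → AddSubgroup V} {a b : ZMod n} {x y : V} (hx : x ∈ F a) (hy : y ∈ H b) :
    ⁅x, y⁆ ∈ br F H (a + b) :=
  AddSubgroup.subset_closure ⟨a, b, rfl, x, hx, y, hy, rfl⟩

theorem br_le {F H T : ZMod n → AddSubgroup V}
    (h : ∀ a b, ∀ x ∈ F a, ∀ y ∈ H b, ⁅x, y⁆ ∈ T (a + b)) : br F H ≤ T := fun s =>
  (AddSubgroup.closure_le _).mpr (by rintro _ ⟨a, b, rfl, x, hx, y, hy, rfl⟩; exact h a b x hx y hy)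

theorem br_mono {F F' H H' : ZMod n → AddSubgroup V} (hF : F ≤ F') (hH : H ≤ H') : br F H ≤ br F' H' :=
  br_le fun a b _ hx _ hy => mem_br (hF a hx) (hH b hy)

theorem Graded.br_le_self {S : ZMod n → AddSubgroup V} (hS : Graded S) : br S S ≤ S := br_le hS.lie_mem

theorem Graded.br {S : ZMod n → AddSubgroup V} (hS : Graded S) : Graded (LieFpf.br S S) :=
  ⟨fun _ _ _ hx _ hy => mem_br (hS.br_le_self _ hx) (hS.br_le_self _ hy),
    le_bot_iff.mp ((hS.br_le_self 0).trans hS.zero_eq.le)⟩

theorem Graded.eq_zero {S : ZMod n → AddSubgroup V} (hS : Graded S) {a : ZMod n} (ha : a = 0) {x : V}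
    (hx : x ∈ S a) : x = 0 := by
  subst ha
  rwa [hS.zero_eq, AddSubgroup.mem_bot] at hx

/-- The derived family. -/
def der (S : ZMod n → AddSubgroup V) : ZMod n → AddSubgroup V := br S S

theorem Graded.der_iterate {S : ZMod n → AddSubgroup V} (hS : Graded S) (m : ℕ) :
    Graded (der^[m] S) ∧ der^[m] S ≤ S := by
  induction m with
  | zero => exact ⟨hS, le_rfl⟩
  | succ m ih =>
    rw [Function.iterate_succ_apply']
    exact ⟨ih.1.br, ih.1.br_le_self.trans ih.2⟩

theorem lie_lie_eq (x y z : V) : ⁅⁅x, y⁆, z⁆ = ⁅x, ⁅y, z⁆⁆ + ⁅⁅x, z⁆, y⁆ := by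
  rw [leibniz_lie x y z, ← lie_skew ⁅x, z⁆ y]
  abel

theorem lie_lie_mem_of {T : AddSubgroup V} {x y z : V} (h1 : ⁅x, ⁅y, z⁆⁆ ∈ T) (h2 : ⁅⁅x, z⁆, y⁆ ∈ T) :
    ⁅⁅x, y⁆, z⁆ ∈ T := by
  rw [lie_lie_eq]; exact T.add_mem h1 h2

theorem br_left_induction {F : AddSubgroup V} {T : AddSubgroup V} {s : Set V} {y : V}
    (hF : F = AddSubgroup.closure s) (h : ∀ u ∈ s, ⁅u, y⁆ ∈ T) {x : V} (hx : x ∈ F) : ⁅x, y⁆ ∈ T := by
  subst hF
  induction hx using AddSubgroup.closure_induction with
  | mem u hu => exact h u hu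
  | zero => rw [zero_lie]; exact T.zero_mem
  | add u v _ _ hu hv => rw [add_lie]; exact T.add_mem hu hv
  | neg u _ hu => rw [neg_lie]; exact T.neg_mem hu

/-- Left-normed products of elements of degree `> k`. -/
inductive Gen (S : ZMod n → AddSubgroup V) (k : ℕ) : ZMod n → V → Prop
  | base (s : ZMod n) (x : V) (hs : k < s.val) (hx : x ∈ S s) : Gen S k s x
  | step (a j : ZMod n) (x l : V) (hx : Gen S k a x) (hj : k < j.val) (hl : l ∈ S j) : Gen S k (a + j) ⁅x, l⁆

/-- The subring generated by the components of degree `> k`. -/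
def M (S : ZMod n → AddSubgroup V) (k : ℕ) : ZMod n → AddSubgroup V := fun s =>
  AddSubgroup.closure {x | Gen S k s x}

theorem mem_M_of_gt {S : ZMod n → AddSubgroup V} {k : ℕ} {s : ZMod n} (hs : k < s.val) {x : V} (hx : x ∈ S s) :
    x ∈ M S k s :=
  AddSubgroup.subset_closure (Gen.base s x hs hx)

theorem M_le {S : ZMod n → AddSubgroup V} (hS : Graded S) (k : ℕ) : M S k ≤ S := fun s =>
  (AddSubgroup.closure_le _).mpr fun x (hx : Gen S k s x) => by
    induction hx with
    | base s x _ hx => exact hx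
    | step a j x l _ _ hl ih => exact hS.lie_mem a j x ih l hl

theorem M_step {S : ZMod n → AddSubgroup V} {k : ℕ} {a j : ZMod n} {x l : V} (hx : x ∈ M S k a)
    (hj : k < j.val) (hl : l ∈ S j) : ⁅x, l⁆ ∈ M S k (a + j) :=
  br_left_induction rfl (fun u hu => AddSubgroup.subset_closure (Gen.step a j u l hu hj hl)) hx

theorem M_lie_gen {S : ZMod n → AddSubgroup V} {k : ℕ} {b : ZMod n} {y : V} (hy : Gen S k b y) :
    ∀ (a : ZMod n) (x : V), x ∈ M S k a → ⁅x, y⁆ ∈ M S k (a + b) := by
  induction hy with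
  | base s x hs hx => intro a u hu; exact M_step hu hs hx
  | step c j y l _ hj hl ih =>
    intro a x hx
    rw [leibniz_lie x y l, ← lie_skew y ⁅x, l⁆, ← sub_eq_add_neg, ← add_assoc]
    refine sub_mem (M_step (ih a x hx) hj hl) ?_
    rw [add_right_comm]
    exact ih (a + j) _ (M_step hx hj hl)

theorem M_lie {S : ZMod n → AddSubgroup V} {k : ℕ} {a b : ZMod n} {x y : V} (hx : x ∈ M S k a)
    (hy : y ∈ M S k b) : ⁅x, y⁆ ∈ M S k (a + b) := by
  induction hy using AddSubgroup.closure_induction with
  | mem u hu => exact M_lie_gen hu a x hx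
  | zero => rw [lie_zero]; exact zero_mem _
  | add u v _ _ hu hv => rw [lie_add]; exact add_mem hu hv
  | neg u _ hu => rw [lie_neg]; exact neg_mem hu

theorem val_cases [NeZero n] (a b : ZMod n) :
    (a + b).val = a.val + b.val ∨ (a + b).val + n = a.val + b.val := by
  rcases lt_or_ge (a.val + b.val) n with h | h
  · exact Or.inl (ZMod.val_add_of_lt h)
  · exact Or.inr (ZMod.val_add_val_of_le h).symm

theorem key [NeZero n] {S : ZMod n → AddSubgroup V} (hS : Graded S) (k : ℕ) :
    ∀ (N : ℕ) (a b : ZMod n) (x y : V), b.val ≤ N → x ∈ M S k a → y ∈ M S k b → (a + b).val = k + 1 →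
      ⁅x, y⁆ ∈ M S (k + 1) (a + b) := by
  have hM := M_le hS k
  have hbig : ∀ (s : ZMod n) (x : V), k + 1 < s.val → x ∈ S s → x ∈ M S (k + 1) s :=
    fun s x hs hx => mem_M_of_gt hs hx
  intro N
  induction N with
  | zero =>
    intro a b x y hb _ hy _
    rw [hS.eq_zero ((ZMod.val_eq_zero b).mp (Nat.le_zero.mp hb)) (hM b hy), lie_zero]
    exact zero_mem _
  | succ N ih =>
    intro a b x y hbN hx hy hab
    have := a.val_lt
    have := b.val_lt
    rcases eq_or_ne b.val 0 with hb0 | hb0
    · rw [hS.eq_zero ((ZMod.val_eq_zero b).mp hb0) (hM b hy), lie_zero]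
      exact zero_mem _
    rcases eq_or_ne a.val 0 with ha0 | ha0
    · rw [hS.eq_zero ((ZMod.val_eq_zero a).mp ha0) (hM a hx), zero_lie]
      exact zero_mem _
    rcases lt_or_ge (k + 1) a.val with hak | hak
    · refine M_lie (hbig a x hak (hM a hx)) (hbig b y ?_ (hM b hy))
      rcases val_cases a b with h | h <;> omega
    have ha : a.val < k + 1 := by rcases val_cases a b with h | h <;> omega
    refine br_left_induction rfl (fun u hu => ?_) hx
    replace hu : Gen S k a u := hu
    cases hu with
    | base _ _ hs _ => omega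
    | step a' j u l hu hj hl =>
      have hu' : u ∈ M S k a' := AddSubgroup.subset_closure hu
      have hl' : l ∈ M S k j := mem_M_of_gt hj hl
      have := a'.val_lt
      have := j.val_lt
      refine lie_lie_mem_of ?_ ?_
      · rw [add_assoc] at hab ⊢
        have := (j + b).val_lt
        rcases eq_or_ne (j + b).val 0 with hc0 | hc0
        · rw [hS.eq_zero ((ZMod.val_eq_zero (j + b)).mp hc0) (hS.lie_mem j b l hl y (hM b hy)), lie_zero]
          exact zero_mem _
        rcases lt_or_ge (j + b).val b.val with hlt | hge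
        · exact ih a' (j + b) u _ (by omega) hu' (M_lie hl' hy) hab
        · have hjb : k + 1 < (j + b).val := by rcases val_cases j b with h | h <;> omega
          refine M_lie (hbig a' u ?_ (hM _ hu')) (hbig _ _ hjb (hS.lie_mem j b l hl y (hM b hy)))
          rcases val_cases a' (j + b) with h | h <;> omega
      · rw [add_right_comm] at hab ⊢
        have := (a' + b).val_lt
        rcases eq_or_ne (a' + b).val 0 with hc0 | hc0
        · rw [hS.eq_zero ((ZMod.val_eq_zero (a' + b)).mp hc0) (hS.lie_mem a' b u (hM _ hu') y (hM b hy)), zero_lie]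
          exact zero_mem _
        have hj' : k + 1 < j.val := by
          rcases val_cases (a' + b) j with h | h <;> omega
        refine M_lie (hbig _ _ ?_ (hS.lie_mem a' b u (hM _ hu') y (hM b hy))) (hbig j l hj' hl)
        rcases val_cases (a' + b) j with h | h <;> omega

/-- **Kreknin's theorem**, inductive form. -/
theorem kreknin [NeZero n] : ∀ (k : ℕ), k < n → ∀ S : ZMod n → AddSubgroup V, Graded S →
    der^[2 ^ k - 1] S ≤ M S k := by
  intro k
  induction k with
  | zero =>
    intro _ S hS s x hx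
    rcases eq_or_ne s.val 0 with h | h
    · rw [hS.eq_zero ((ZMod.val_eq_zero s).mp h) hx]; exact zero_mem _
    · exact mem_M_of_gt (by omega) hx
  | succ k ih =>
    intro hk S hS
    have h0 := ih (by omega) S hS
    obtain ⟨hD, hDS⟩ := hS.der_iterate (2 ^ k - 1)
    have hD1 : Graded (der (der^[2 ^ k - 1] S)) := hD.br
    have hgood : ∀ (s : ZMod n), k < s.val → ∀ x ∈ der (der^[2 ^ k - 1] S) s, x ∈ M S (k + 1) s := by
      intro s hs x hx
      rcases lt_or_ge (k + 1) s.val with h | h
      · exact mem_M_of_gt h (hDS s (hD.br_le_self s hx))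
      · refine (AddSubgroup.closure_le _).mpr ?_ hx
        rintro _ ⟨a, b, rfl, u, hu, v, hv, rfl⟩
        exact key hS k b.val a b u v le_rfl (h0 a hu) (h0 b hv) (by omega)
    rw [show 2 ^ (k + 1) - 1 = (2 ^ k - 1) + (2 ^ k - 1 + 1) by
        have := Nat.one_le_two_pow (n := k); rw [pow_succ]; omega,
      Function.iterate_add_apply, Function.iterate_succ_apply']
    refine (ih (by omega) _ hD1).trans fun s => (AddSubgroup.closure_le _).mpr fun x hx => ?_
    replace hx : Gen (der (der^[2 ^ k - 1] S)) k s x := hx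
    induction hx with
    | base s x hs hx => exact hgood s hs x hx
    | step a j x l _ hj hl ih' => exact M_lie ih' (hgood j hj l hl)

theorem solvable [NeZero n] {S : ZMod n → AddSubgroup V} (hS : Graded S) : der^[2 ^ (n - 1) - 1] S = ⊥ := by
  refine le_bot_iff.mp ((kreknin (n - 1) (by have := NeZero.ne n; omega) S hS).trans fun s => ?_)
  refine (AddSubgroup.closure_le _).mpr fun x hx => ?_
  replace hx : Gen S (n - 1) s x := hx
  exfalso
  induction hx with
  | base s x hs _ => have := s.val_lt; omega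
  | step a j x l _ hj _ _ => have := j.val_lt; omega

/-- Left-normed powers. -/
def cs (S : ZMod n → AddSubgroup V) (k : ℕ) : ZMod n → AddSubgroup V := (fun F => br F S)^[k] S

theorem cs_zero (S : ZMod n → AddSubgroup V) : cs S 0 = S := rfl

theorem cs_succ (S : ZMod n → AddSubgroup V) (k : ℕ) : cs S (k + 1) = br (cs S k) S :=
  Function.iterate_succ_apply' _ _ _

theorem cs_le {S : ZMod n → AddSubgroup V} (hS : Graded S) (k : ℕ) : cs S k ≤ S := by
  induction k with
  | zero => exact le_rfl
  | succ k ih => rw [cs_succ]; exact (br_mono ih le_rfl).trans hS.br_le_self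

theorem br_ideal {F D S : ZMod n → AddSubgroup V} (hF : br F S ≤ F) (hD : br D S ≤ D) :
    br (br F D) S ≤ br F D := br_le fun a b x hx y hy => br_left_induction rfl (fun u hu => by
  obtain ⟨c, d, rfl, f, hf, g, hg, rfl⟩ := hu
  refine lie_lie_mem_of ?_ ?_
  · rw [add_assoc]; exact mem_br hf (hD _ (mem_br hg hy))
  · rw [add_right_comm]; exact mem_br (hF _ (mem_br hf hy)) hg) hx

/-- A left-normed product. -/
def prodL (u : V) : List (ZMod n × V) → V
  | [] => u
  | e :: r => prodL ⁅u, e.2⁆ r

/-- The subsums of a list. -/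
def sums : List (ZMod n) → Finset (ZMod n)
  | [] => {0}
  | d :: r => sums r ∪ (sums r).image (d + ·)

theorem prodL_add (l : List (ZMod n × V)) : ∀ u v : V, prodL (u + v) l = prodL u l + prodL v l := by
  induction l with
  | nil => intros; rfl
  | cons e r ih => intro u v; simp only [prodL, add_lie, ih]

theorem prodL_zero (l : List (ZMod n × V)) : prodL (0 : V) l = 0 := by
  induction l with
  | nil => rfl
  | cons e r ih => simp only [prodL, zero_lie, ih]

/-- The list consists of homogeneous elements. -/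
def Homog (S : ZMod n → AddSubgroup V) (l : List (ZMod n × V)) : Prop := ∀ e ∈ l, e.2 ∈ S e.1

theorem Homog.tail {S : ZMod n → AddSubgroup V} {e : ZMod n × V} {r : List (ZMod n × V)}
    (h : Homog S (e :: r)) : e.2 ∈ S e.1 ∧ Homog S r :=
  ⟨h e List.mem_cons_self, fun f hf => h f (List.mem_cons_of_mem _ hf)⟩

section Nilpotency

variable {S F T : ZMod n → AddSubgroup V}

theorem prodL_mem (hF : br F S ≤ F) (l : List (ZMod n × V)) : ∀ (s : ZMod n) (u : V), u ∈ F s → Homog S l →
    prodL u l ∈ F (s + (l.map Prod.fst).sum) := by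
  induction l with
  | nil => intro s u hu _; simpa [prodL] using hu
  | cons e r ih =>
    intro s u hu h
    rw [List.map_cons, List.sum_cons, ← add_assoc]
    exact ih _ _ (hF _ (mem_br hu h.tail.1)) h.tail.2

theorem prodL_swap (hF : br F S ≤ F) (hT : br T S ≤ T) (hFD : br F (br S S) ≤ T) (l : List (ZMod n × V)) :
    ∀ (s d : ZMod n) (u x : V), u ∈ F s → x ∈ S d → Homog S l →
      prodL ⁅u, x⁆ l - ⁅prodL u l, x⁆ ∈ T (s + d + (l.map Prod.fst).sum) := by
  induction l with
  | nil => intro s d u x _ _ _; simp [prodL]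
  | cons e r ih =>
    intro s d u x hu hx h
    obtain ⟨he, hr⟩ := h.tail
    simp only [prodL, List.map_cons, List.sum_cons]
    rw [lie_lie_eq u x e.2, prodL_add, add_sub_assoc, ← add_assoc]
    refine add_mem ?_ ?_
    · refine prodL_mem hT r _ _ ?_ hr
      rw [add_assoc]
      exact hFD _ (mem_br hu (mem_br hx he))
    · rw [show s + d + e.1 = s + e.1 + d by abel]
      exact ih _ _ _ _ (hF _ (mem_br hu he)) hx hr

theorem prodL_of_sums (hSg : Graded S) (hFS : F ≤ S) (hF : br F S ≤ F) (hT : br T S ≤ T)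
    (hFD : br F (br S S) ≤ T) (l : List (ZMod n × V)) :
    ∀ (s : ZMod n) (u : V), u ∈ F s → Homog S l → -s ∈ sums (l.map Prod.fst) →
      prodL u l ∈ T (s + (l.map Prod.fst).sum) := by
  induction l with
  | nil =>
    intro s u hu _ hs
    simp only [List.map_nil, sums, Finset.mem_singleton, neg_eq_zero] at hs
    simp only [prodL, List.map_nil, List.sum_nil, add_zero]
    rw [hSg.eq_zero hs (hFS s hu)]
    exact zero_mem _
  | cons e r ih =>
    intro s u hu h hs
    obtain ⟨he, hr⟩ := h.tail
    simp only [List.map_cons, sums, Finset.mem_union, Finset.mem_image] at hs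
    simp only [prodL, List.map_cons, List.sum_cons, ← add_assoc]
    rcases hs with hs | ⟨t, ht, hts⟩
    · have h1 := prodL_swap hF hT hFD r s e.1 u e.2 hu he hr
      have h2 := hT _ (mem_br (ih s u hu hr hs) he)
      rw [add_right_comm] at h2
      simpa using add_mem h1 h2
    · refine ih _ _ (hF _ (mem_br hu he)) hr ?_
      rwa [show -(s + e.1) = t by rw [neg_add, ← hts]; abel]

theorem card_sums [Fact n.Prime] (l : List (ZMod n)) (hl : ∀ d ∈ l, d ≠ 0) :
    min n (l.length + 1) ≤ (sums l).card := by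
  induction l with
  | nil => simp [sums]
  | cons d r ih =>
    have ih' := ih fun e he => hl e (List.mem_cons_of_mem _ he)
    simp only [sums, List.length_cons]
    by_cases hu : sums r = Finset.univ
    · rw [hu, Finset.union_eq_left.mpr (Finset.subset_univ _), Finset.card_univ, ZMod.card]; exact min_le_left _ _
    have hlt : (sums r).card < (sums r ∪ (sums r).image (d + ·)).card := by
      refine Finset.card_lt_card ((Finset.subset_union_left).ssubset_of_ne fun heq => hu ?_)
      have hcl : ∀ t ∈ sums r, d + t ∈ sums r := fun t ht => by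
        rw [heq]; exact Finset.mem_union_right _ (Finset.mem_image_of_mem _ ht)
      obtain ⟨t, ht⟩ : (sums r).Nonempty := Finset.card_pos.mp (by
        have := NeZero.ne n
        omega)
      have hall : ∀ m : ℕ, (m : ZMod n) * d + t ∈ sums r := by
        intro m
        induction m with
        | zero => simpa using ht
        | succ m hm =>
          rw [Nat.cast_succ, show ((m : ZMod n) + 1) * d + t = d + ((m : ZMod n) * d + t) by ring]
          exact hcl _ hm
      refine Finset.eq_univ_iff_forall.mpr fun w => ?_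
      have := hall ((w - t) / d).val
      rwa [ZMod.natCast_zmod_val, div_mul_cancel₀ _ (hl d List.mem_cons_self), sub_add_cancel] at this
    omega

theorem iterate_br_le (m : ℕ) : ∀ F T : ZMod n → AddSubgroup V,
    (∀ (s : ZMod n) (u : V), u ∈ F s → ∀ l : List (ZMod n × V), l.length = m → Homog S l →
      prodL u l ∈ T (s + (l.map Prod.fst).sum)) → (fun X => br X S)^[m] F ≤ T := by
  induction m with
  | zero =>
    intro F T h s u hu
    simpa [prodL] using h s u hu [] rfl (fun e he => by simp at he)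
  | succ m ih =>
    intro F T h
    rw [Function.iterate_succ_apply]
    refine ih _ T fun s u hu l hl hhom => ?_
    induction hu using AddSubgroup.closure_induction with
    | mem w hw =>
      obtain ⟨a, b, rfl, x, hx, y, hy, rfl⟩ := hw
      have := h a x hx ((b, y) :: l) (by simp [hl]) (fun e he => by
        rcases List.mem_cons.mp he with rfl | he
        exacts [hy, hhom e he])
      simpa [prodL, add_assoc] using this
    | zero => rw [prodL_zero]; exact zero_mem _
    | add v w _ _ hv hw => rw [prodL_add]; exact add_mem hv hw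
    | neg v _ hv =>
      have h0 := prodL_add l v (-v)
      rw [add_neg_cancel, prodL_zero] at h0
      rw [eq_neg_of_add_eq_zero_right h0.symm]
      exact neg_mem hv

theorem br_iterate_le [Fact n.Prime] (hSg : Graded S) (hFS : F ≤ S) (hF : br F S ≤ F)
    (hT : br T S ≤ T) (hFD : br F (br S S) ≤ T) : (fun X => br X S)^[n - 1] F ≤ T := by
  refine iterate_br_le (n - 1) F T fun s u hu l hl hhom => ?_
  by_cases h0 : ∀ d ∈ l.map Prod.fst, d ≠ 0
  · refine prodL_of_sums hSg hFS hF hT hFD l s u hu hhom ?_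
    have h1 := card_sums _ h0
    have h2 : (sums (l.map Prod.fst)).card ≤ n := le_trans (Finset.card_le_univ _) (ZMod.card n).le
    have h3 : sums (l.map Prod.fst) = Finset.univ := by
      refine Finset.eq_univ_of_card _ ?_
      rw [List.length_map, hl] at h1
      have := (Fact.out : n.Prime).two_le
      rw [ZMod.card]
      omega
    rw [h3]; exact Finset.mem_univ _
  · push Not at h0
    obtain ⟨d, hd, rfl⟩ := h0
    obtain ⟨e, he, hed⟩ := List.mem_map.mp hd
    have : prodL u l = 0 := by
      clear hd hl hu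
      induction l generalizing u with
      | nil => simp at he
      | cons f r ih =>
        rcases List.mem_cons.mp he with rfl | he'
        · rw [prodL, hSg.eq_zero hed hhom.tail.1, lie_zero, prodL_zero]
        · exact ih ⁅u, f.2⁆ hhom.tail.2 he'
    rw [this]; exact zero_mem _

end Nilpotency

theorem cs_ideal {S : ZMod n → AddSubgroup V} (hS : Graded S) (t : ℕ) :
    br (cs (br S S) t) S ≤ cs (br S S) t := by
  induction t with
  | zero => exact br_mono hS.br_le_self le_rfl
  | succ t ih =>
    rw [cs_succ]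
    exact br_ideal ih (br_mono hS.br_le_self le_rfl)

theorem cs_add (S : ZMod n → AddSubgroup V) (a b : ℕ) : cs S (a + b) = (fun X => br X S)^[a] (cs S b) :=
  Function.iterate_add_apply _ _ _ _

theorem cs_bound [Fact n.Prime] {S : ZMod n → AddSubgroup V} (hS : Graded S) (t : ℕ) :
    cs S (1 + (n - 1) * t) ≤ cs (br S S) t := by
  induction t with
  | zero => rw [mul_zero, add_zero, cs_succ, cs_zero, cs_zero]
  | succ t ih =>
    rw [show 1 + (n - 1) * (t + 1) = (n - 1) + (1 + (n - 1) * t) by ring, cs_add]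
    refine le_trans (Monotone.iterate (fun F F' h => br_mono h le_rfl) (n - 1) ih) ?_
    refine br_iterate_le hS ((cs_le hS.br t).trans hS.br_le_self) (cs_ideal hS t) (cs_ideal hS (t + 1)) ?_
    rw [cs_succ]

/-- **The Kreknin–Kostrikin bound.** -/
theorem cs_eq_bot [Fact n.Prime] : ∀ (N : ℕ) (S : ZMod n → AddSubgroup V), Graded S → der^[N] S = ⊥ →
    cs S (∑ i ∈ Finset.range N, (n - 1) ^ i) = ⊥ := by
  intro N
  induction N with
  | zero => intro S _ h; simpa [cs] using h
  | succ N ih =>
    intro S hS h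
    rw [Function.iterate_succ_apply] at h
    rw [geom_sum_succ, add_comm]
    exact le_bot_iff.mp ((cs_bound hS _).trans (ih (br S S) hS.br h).le)

theorem cs_two_three {S : ZMod 3 → AddSubgroup V} (hS : Graded S) : cs S 2 = ⊥ := by
  rw [cs_succ, cs_succ, cs_zero, eq_bot_iff]
  refine br_le fun a c x hx z hz => br_left_induction rfl (fun u hu => ?_) hx
  obtain ⟨p, q, rfl, v, hv, w, hw, rfl⟩ := hu
  change ⁅⁅v, w⁆, z⁆ ∈ (⊥ : AddSubgroup V)
  rcases eq_or_ne p 0 with hp | hp
  · rw [hS.eq_zero hp hv, zero_lie, zero_lie]; exact zero_mem _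
  rcases eq_or_ne (p + q) 0 with hpq | hpq
  · rw [hS.eq_zero hpq (hS.lie_mem p q v hv w hw), zero_lie]; exact zero_mem _
  rcases eq_or_ne (p + q + c) 0 with hpqc | hpqc
  · rw [hS.eq_zero hpqc (hS.lie_mem _ _ _ (hS.lie_mem p q v hv w hw) z hz)]; exact zero_mem _
  rcases eq_or_ne q 0 with hq | hq
  · rw [hS.eq_zero hq hw, lie_zero, zero_lie]; exact zero_mem _
  rcases eq_or_ne c 0 with hc | hc
  · rw [hS.eq_zero hc hz, lie_zero]; exact zero_mem _
  have key : ∀ p q c : ZMod 3, p ≠ 0 → p + q ≠ 0 → p + q + c ≠ 0 → q ≠ 0 → c ≠ 0 → q + c = 0 ∧ p + c = 0 := by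
    decide
  obtain ⟨h1, h2⟩ := key p q c hp hpq hpqc hq hc
  rw [lie_lie_eq, hS.eq_zero h1 (hS.lie_mem q c w hw z hz),
    hS.eq_zero h2 (hS.lie_mem p c v hv z hz), lie_zero, zero_lie, add_zero]
  exact zero_mem _

end CfsgLib.LieFpf
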