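import Mathlib
import Cfsg.Agent.Lib.LieFpf.Graded

/-! Lie rings with a fixed-point-free automorphism of prime order: the nilpotency bound. -/

set_option autoImplicit false

namespace CfsgLib.LieFpf

open scoped TensorProduct

universe u

variable {L : Type u} [LieRing L]

theorem iSup_lie {V : Type*} [LieRing V] {n : ℕ} {F H T : ZMod n → AddSubgroup V}
    (h : ∀ a b, ∀ x ∈ F a, ∀ y ∈ H b, ⁅x, y⁆ ∈ T (a + b)) {u v : V} (hu : u ∈ ⨆ s, F s) (hv : v ∈ ⨆ s, H s) :
    ⁅u, v⁆ ∈ ⨆ s, T s := by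
  induction hu using AddSubgroup.iSup_induction' with
  | hp a u hu =>
    induction hv using AddSubgroup.iSup_induction' with
    | hp b v hv => exact AddSubgroup.mem_iSup_of_mem (a + b) (h a b u hu v hv)
    | h1 => rw [lie_zero]; exact zero_mem _
    | hadd v w _ _ hv hw => rw [lie_add]; exact add_mem hv hw
  | h1 => rw [zero_lie]; exact zero_mem _
  | hadd u w _ _ hu hw => rw [add_lie]; exact add_mem hu hw

/-- Left-normed powers of a Lie ring. -/
def lcs (L : Type u) [LieRing L] : ℕ → AddSubgroup L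
  | 0 => ⊤
  | k + 1 => AddSubgroup.closure {z | ∃ x ∈ lcs L k, ∃ y : L, ⁅x, y⁆ = z}

variable {p : ℕ}

/-- The group ring of the cyclic group of order `p`. -/
def R (p : ℕ) : Type := AddMonoidAlgebra ℤ (ZMod p)

noncomputable instance instCommRingR (p : ℕ) : CommRing (R p) :=
  inferInstanceAs (CommRing (AddMonoidAlgebra ℤ (ZMod p)))

/-- The coefficients. -/
def R.c {p : ℕ} (r : R p) : ZMod p →₀ ℤ := (r : AddMonoidAlgebra ℤ (ZMod p)).coeff

theorem R.c_add {p : ℕ} (r s : R p) : R.c (r + s) = R.c r + R.c s := rfl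

/-- The coefficients as an additive map. -/
noncomputable def R.cHom {p : ℕ} (k : ZMod p) : R p →+ ℤ where
  toFun r := R.c r k
  map_zero' := rfl
  map_add' r s := by rw [R.c_add]; rfl

theorem R.ext {p : ℕ} {r s : R p} (h : ∀ k, R.cHom k r = R.cHom k s) : r = s :=
  AddMonoidAlgebra.ext (Finsupp.ext h)

noncomputable local instance (priority := high) selfBracket : Bracket (R p ⊗[ℤ] L) (R p ⊗[ℤ] L) :=
  (lieRingSelfModule (L := R p ⊗[ℤ] L)).toBracket

theorem tmul_lie (a b : R p) (x y : L) : ⁅a ⊗ₜ[ℤ] x, b ⊗ₜ[ℤ] y⁆ = (a * b) ⊗ₜ[ℤ] ⁅x, y⁆ := rfl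

/-- The extended Lie ring. -/
abbrev E (p : ℕ) (L : Type u) [LieRing L] : Type u := R p ⊗[ℤ] L

/-- The basis elements of the group ring. -/
noncomputable def δ (i : ZMod p) : R p := AddMonoidAlgebra.single i 1

theorem δ_mul (i j : ZMod p) : δ i * δ j = δ (i + j) :=
  (AddMonoidAlgebra.single_mul_single i j (1 : ℤ) 1).trans (by rw [mul_one]; rfl)

theorem δ_zero : δ (p := p) 0 = 1 := rfl

theorem cHom_δ (k i : ZMod p) : R.cHom k (δ i) = if i = k then 1 else 0 :=
  Finsupp.single_apply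

/-- The extension of an additive map. -/
noncomputable def ext' (Φ : L →+ L) : E p L →ₗ[ℤ] E p L := LinearMap.lTensor (R p) Φ.toIntLinearMap

theorem ext'_tmul (Φ : L →+ L) (r : R p) (x : L) : ext' Φ (r ⊗ₜ[ℤ] x) = r ⊗ₜ[ℤ] Φ x :=
  LinearMap.lTensor_tmul _ _ _ _

theorem ext'_lie (Φ : L →+ L) (hΦ : ∀ x y, Φ ⁅x, y⁆ = ⁅Φ x, Φ y⁆) (f g : E p L) :
    ext' Φ ⁅f, g⁆ = ⁅ext' Φ f, ext' Φ g⁆ := by
  induction f using TensorProduct.induction_on with
  | zero => rw [zero_lie, map_zero, zero_lie]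
  | tmul r x =>
    induction g using TensorProduct.induction_on with
    | zero => rw [lie_zero, map_zero, lie_zero]
    | tmul s y =>
      rw [tmul_lie, ext'_tmul, ext'_tmul, ext'_tmul,
        tmul_lie, hΦ]
    | add a b ha hb => rw [lie_add, map_add, map_add, lie_add, ha, hb]
  | add a b ha hb => rw [add_lie, map_add, map_add, add_lie, ha, hb]

theorem ext'_smul (Φ : L →+ L) (a : R p) (f : E p L) : ext' Φ (a • f) = a • ext' Φ f := by
  induction f using TensorProduct.induction_on with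
  | zero => rw [smul_zero, map_zero, smul_zero]
  | tmul r x => rw [TensorProduct.smul_tmul', ext'_tmul, ext'_tmul, TensorProduct.smul_tmul']
  | add a b ha hb => rw [smul_add, map_add, map_add, smul_add, ha, hb]

/-- The coordinate maps. -/
noncomputable def coord (k : ZMod p) : E p L →ₗ[ℤ] L :=
  TensorProduct.lift (LinearMap.mk₂ ℤ (fun (r : R p) (x : L) => R.cHom k r • x)
    (fun r s x => by rw [map_add, add_smul])
    (fun c r x => by rw [map_zsmul, smul_eq_mul, mul_smul])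
    (fun r x y => by rw [smul_add])
    (fun c r x => by rw [smul_comm]))

theorem coord_tmul (k : ZMod p) (r : R p) (x : L) : coord k (r ⊗ₜ[ℤ] x) = R.cHom k r • x :=
  TensorProduct.lift.tmul _ _

theorem coord_ext' (Φ : L →+ L) (k : ZMod p) (f : E p L) : coord k (ext' Φ f) = Φ (coord k f) := by
  induction f using TensorProduct.induction_on with
  | zero => simp
  | tmul r x => rw [ext'_tmul, coord_tmul, coord_tmul, map_zsmul]
  | add a b ha hb => rw [map_add, map_add, map_add, map_add, ha, hb]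

theorem sum_coord [NeZero p] (f : E p L) : ∑ k : ZMod p, δ k ⊗ₜ[ℤ] coord k f = f := by
  induction f using TensorProduct.induction_on with
  | zero => simp
  | tmul r x =>
    simp only [coord_tmul, TensorProduct.tmul_smul, TensorProduct.smul_tmul', ← TensorProduct.sum_tmul]
    congr 1
    refine R.ext fun m => ?_
    rw [map_sum]
    simp only [map_zsmul, smul_eq_mul, cHom_δ, mul_ite, mul_one, mul_zero, Finset.sum_ite_eq', Finset.mem_univ, if_true]
  | add a b ha hb => simp only [map_add, TensorProduct.tmul_add, Finset.sum_add_distrib, ha, hb]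

/-- The eigenspaces of the extended automorphism. -/
noncomputable def eig (Φ : L →+ L) (i : ZMod p) : AddSubgroup (E p L) where
  carrier := {f | ext' Φ f = δ i • f}
  zero_mem' := by simp
  add_mem' := fun {a b} (ha : _ = _) (hb : _ = _) => by
    show _ = _
    rw [map_add, ha, hb, smul_add]
  neg_mem' := fun {a} (ha : _ = _) => by
    show _ = _
    rw [map_neg, ha, smul_neg]

theorem mem_eig {Φ : L →+ L} {i : ZMod p} {f : E p L} : f ∈ eig Φ i ↔ ext' Φ f = δ i • f := Iff.rfl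

theorem eig_graded [NeZero p] (Φ : L →+ L) (hΦ : ∀ x y, Φ ⁅x, y⁆ = ⁅Φ x, Φ y⁆) (hfix : ∀ x, Φ x = x → x = 0) :
    Graded (eig (p := p) Φ) := by
  refine ⟨fun a b x hx y hy => ?_, le_bot_iff.mp fun f hf => ?_⟩
  · rw [mem_eig] at hx hy ⊢
    rw [ext'_lie Φ hΦ, hx, hy]
    rw [lie_smul]
    rw [← lie_skew (δ a • x) y, lie_smul, ← smul_neg, lie_skew x y]
    rw [smul_smul, δ_mul, add_comm b a]
  · rw [mem_eig] at hf
    rw [δ_zero, one_smul] at hf
    rw [AddSubgroup.mem_bot, ← sum_coord f]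
    refine Finset.sum_eq_zero fun k _ => ?_
    rw [hfix (coord k f) (by rw [← coord_ext', hf]), TensorProduct.tmul_zero]

/-- The multiplier `p - ∑ δ`. -/
noncomputable def ee (p : ℕ) [NeZero p] : R p := (p : R p) - ∑ i : ZMod p, δ i

theorem ee_mul [NeZero p] : ee p * ee p = (p : R p) * ee p := by
  have hN : (∑ i : ZMod p, δ i) * (∑ i : ZMod p, δ i) = (p : R p) * ∑ i : ZMod p, δ i := by
    rw [Finset.sum_mul]
    have h : ∀ i : ZMod p, δ i * ∑ j : ZMod p, δ j = ∑ j : ZMod p, δ j := fun i => by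
      rw [Finset.mul_sum]
      simp only [δ_mul]
      exact Equiv.sum_comp (Equiv.addLeft i) δ
    simp only [h]
    rw [Finset.sum_const, Finset.card_univ, ZMod.card, nsmul_eq_mul]
  unfold ee
  linear_combination hN

theorem ee_coeff [Fact p.Prime] : R.cHom 1 (ee p) = -1 := by
  rw [ee, map_sub, map_sum, ← nsmul_one, ← δ_zero, map_nsmul]
  simp [cHom_δ]

variable [Fact p.Prime] (Φ : L →+ L)

/-- The projection to an eigenspace. -/
noncomputable def comp' (i : ZMod p) (x : L) : E p L := ∑ j : ZMod p, δ (-(i * j)) ⊗ₜ[ℤ] Φ^[j.val] x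

theorem comp'_mem (hper : ∀ x, Φ^[p] x = x) (i : ZMod p) (x : L) : comp' Φ i x ∈ eig Φ i := by
  have hval : ∀ j : ZMod p, Φ (Φ^[j.val] x) = Φ^[(j + 1).val] x := fun j => by
    rw [← Function.iterate_succ_apply' Φ, ← (show Function.IsPeriodicPt Φ p x from hper x).iterate_mod_apply,
      ZMod.val_add, ZMod.val_one, Nat.succ_eq_add_one]
  rw [mem_eig, comp', map_sum, Finset.smul_sum]
  simp only [ext'_tmul, hval, TensorProduct.smul_tmul', smul_eq_mul, δ_mul]
  refine Fintype.sum_equiv (Equiv.addRight 1) _ _ fun j => ?_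
  simp only [Equiv.coe_addRight]
  rw [show i + -(i * (j + 1)) = -(i * j) by ring]

theorem sum_comp' (hfix : ∀ x, Φ x = x → x = 0) (hper : ∀ x, Φ^[p] x = x) (x : L) :
    ∑ i : ZMod p, comp' Φ i x = ee p ⊗ₜ[ℤ] x := by
  have hsum : ∑ j : ZMod p, Φ^[j.val] x = 0 := by
    refine hfix _ ?_
    rw [map_sum]
    refine Fintype.sum_equiv (Equiv.addRight 1) _ _ fun j => ?_
    rw [← Function.iterate_succ_apply' Φ, ← (show Function.IsPeriodicPt Φ p x from hper x).iterate_mod_apply,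
      Equiv.coe_addRight]
    simp only [ZMod.val_add, ZMod.val_one, Nat.succ_eq_add_one]
  simp only [comp']
  rw [Finset.sum_comm]
  simp only [← TensorProduct.sum_tmul]
  rw [← Finset.add_sum_erase _ _ (Finset.mem_univ (0 : ZMod p))]
  have h1 : ∀ j ∈ Finset.univ.erase (0 : ZMod p), (∑ i : ZMod p, δ (-(i * j))) ⊗ₜ[ℤ] Φ^[j.val] x =
      (∑ i : ZMod p, δ i) ⊗ₜ[ℤ] Φ^[j.val] x := fun j hj => by
    congr 1
    exact Fintype.sum_equiv ((Equiv.mulRight₀ j (Finset.ne_of_mem_erase hj)).trans (Equiv.neg _)) _ _ fun _ => rfl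
  rw [Finset.sum_congr rfl h1, ← TensorProduct.tmul_sum,
    Finset.sum_erase_eq_sub (Finset.mem_univ _), hsum]
  simp only [mul_zero, neg_zero, ZMod.val_zero, Function.iterate_zero_apply, zero_sub, TensorProduct.tmul_neg,
    ← sub_eq_add_neg, Finset.sum_const, Finset.card_univ, ZMod.card]
  rw [← TensorProduct.sub_tmul, ee, nsmul_eq_mul, δ_zero, mul_one]

theorem lcs_eig (hfix : ∀ x, Φ x = x → x = 0) (hper : ∀ x, Φ^[p] x = x) (k : ℕ) :
    ∀ x ∈ lcs L k, p ^ k • (ee p ⊗ₜ[ℤ] x) ∈ ⨆ s : ZMod p, cs (eig Φ) k s := by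
  have hmem : ∀ x : L, ee p ⊗ₜ[ℤ] x ∈ ⨆ s : ZMod p, eig (p := p) Φ s := fun x => by
    rw [← sum_comp' Φ hfix hper x]
    exact sum_mem fun i _ => AddSubgroup.mem_iSup_of_mem i (comp'_mem Φ hper i x)
  induction k with
  | zero => intro x _; simpa [cs] using hmem x
  | succ k ih =>
    intro z hz
    induction hz using AddSubgroup.closure_induction with
    | mem w hw =>
      obtain ⟨x, hx, y, rfl⟩ := hw
      have h : p ^ (k + 1) • (ee p ⊗ₜ[ℤ] ⁅x, y⁆) = ⁅p ^ k • (ee p ⊗ₜ[ℤ] x), ee p ⊗ₜ[ℤ] y⁆ := by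
        rw [nsmul_lie, tmul_lie, ee_mul, ← nsmul_eq_mul,
          ← TensorProduct.smul_tmul', ← mul_nsmul, ← pow_succ']
      rw [h]
      have h2 := fun u v => iSup_lie (u := u) (v := v) (T := fun s => cs (eig (p := p) Φ) (k + 1) s)
        (F := cs (eig (p := p) Φ) k) (H := eig (p := p) Φ) (by intro a b x hx y hy; rw [cs_succ]; exact mem_br hx hy)
      exact h2 _ _ (ih x hx) (hmem y)
    | zero => simp
    | add u v _ _ hu hv => rw [TensorProduct.tmul_add, smul_add]; exact add_mem hu hv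
    | neg u _ hu => rw [TensorProduct.tmul_neg, smul_neg]; exact neg_mem hu

theorem lcs_eq_bot_of_cs (hfix : ∀ x, Φ x = x → x = 0) (hper : ∀ x, Φ^[p] x = x)
    (htf : ∀ x : L, p • x = 0 → x = 0) {k : ℕ} (h : cs (eig (p := p) Φ) k = ⊥) : lcs L k = ⊥ := by
  refine le_bot_iff.mp fun x hx => ?_
  have h1 := lcs_eig Φ hfix hper k x hx
  rw [h] at h1
  simp only [Pi.bot_apply, iSup_bot, AddSubgroup.mem_bot] at h1
  have h2 := congrArg (coord (L := L) (1 : ZMod p)) h1
  rw [map_nsmul, coord_tmul, ee_coeff, map_zero, neg_one_zsmul, smul_neg, neg_eq_zero] at h2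
  rw [AddSubgroup.mem_bot]
  clear h1 hx h
  induction k with
  | zero => simpa using h2
  | succ k ih => exact ih (htf _ (by rwa [pow_succ', mul_nsmul'] at h2))

/-- **Higman, Kreknin, Kostrikin.** -/
theorem lcs_bound (hΦ : ∀ x y, Φ ⁅x, y⁆ = ⁅Φ x, Φ y⁆) (hfix : ∀ x, Φ x = x → x = 0) (hper : ∀ x, Φ^[p] x = x)
    (htf : ∀ x : L, p • x = 0 → x = 0) :
    lcs L (∑ i ∈ Finset.range (2 ^ (p - 1) - 1), (p - 1) ^ i) = ⊥ ∧ (p = 3 → lcs L 2 = ⊥) := by
  have hS : Graded (eig (p := p) Φ) := eig_graded Φ hΦ hfix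
  refine ⟨lcs_eq_bot_of_cs Φ hfix hper htf (cs_eq_bot _ _ hS (solvable hS)), ?_⟩
  rintro rfl
  exact lcs_eq_bot_of_cs Φ hfix hper htf (cs_two_three hS)

end CfsgLib.LieFpf
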