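import Mathlib
import Cfsg.Agent.Lib.LieFpf.Fpf
import Cfsg.Agent.Lib.Frobenius.FixedPointFree

/-! The Lie ring of the lower central series; class of groups with fixed-point-free automorphisms of prime order. -/

set_option autoImplicit false

namespace CfsgLib.LieFpf

open scoped commutatorElement DirectSum

universe u

variable {G : Type u} [Group G]

local notation "γ" => Subgroup.lowerCentralSeries (⊤ : Subgroup G)

theorem gam_commutator (j : ℕ) : ∀ i, ⁅γ i, γ j⁆ ≤ γ (i + j + 1) := by
  induction j with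
  | zero => intro i; rw [Subgroup.lowerCentralSeries_zero, add_zero]; exact le_of_eq (Subgroup.lowerCentralSeries_succ _ i).symm
  | succ j ih =>
    intro i
    haveI : (γ (i + (j + 1) + 1)).Normal := inferInstance
    set π := QuotientGroup.mk' (γ (i + (j + 1) + 1))
    have hb : ∀ X : Subgroup G, X ≤ γ (i + (j + 1) + 1) → X.map π = ⊥ := fun X hX => by
      rw [Subgroup.map_eq_bot_iff, QuotientGroup.ker_mk']; exact hX
    have h := Subgroup.commutator_commutator_eq_bot_of_rotate (H₁ := (γ j).map π) (H₂ := (⊤ : Subgroup G).map π)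
      (H₃ := (γ i).map π) ?_ ?_
    · rw [← Subgroup.map_commutator, ← Subgroup.map_commutator, Subgroup.map_eq_bot_iff, QuotientGroup.ker_mk',
        Subgroup.commutator_comm] at h
      rwa [Subgroup.lowerCentralSeries_succ]
    · rw [← Subgroup.map_commutator, ← Subgroup.map_commutator]
      refine hb _ ?_
      rw [Subgroup.commutator_comm ⊤, ← Subgroup.lowerCentralSeries_succ]
      refine (ih (i + 1)).trans (le_of_eq ?_)
      rw [show i + 1 + j + 1 = i + (j + 1) + 1 by omega]
    · rw [← Subgroup.map_commutator, ← Subgroup.map_commutator]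
      refine hb _ ((Subgroup.commutator_mono (ih i) le_rfl).trans (le_of_eq ?_))
      rw [← Subgroup.lowerCentralSeries_succ, show i + j + 1 + 1 = i + (j + 1) + 1 by omega]

theorem comm_mem {i j n : ℕ} (hn : i + j + 1 = n) {x y : G} (hx : x ∈ γ i) (hy : y ∈ γ j) : ⁅x, y⁆ ∈ γ n :=
  hn ▸ gam_commutator j i (Subgroup.commutator_mem_commutator hx hy)

variable (G)

/-- The factors of the lower central series. -/
abbrev Q (n : ℕ) : Type u := ↥(γ n) ⧸ (γ (n + 1)).subgroupOf (γ n)

variable {G}

noncomputable instance instCommGroupQ (n : ℕ) : CommGroup (Q G n) :=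
  { (inferInstance : Group (Q G n)) with
    mul_comm := fun a b => by
      refine QuotientGroup.induction_on a fun x => QuotientGroup.induction_on b fun y => ?_
      rw [← QuotientGroup.mk_mul, ← QuotientGroup.mk_mul, QuotientGroup.eq, Subgroup.mem_subgroupOf]
      have : ((x * y)⁻¹ * (y * x) : ↥(γ n)) = (⁅(y : G)⁻¹, (x : G)⁻¹⁆ : G) := by
        rw [commutatorElement_def]; push_cast; group
      rw [this]
      exact comm_mem (i := n) (j := 0) (by omega) (inv_mem y.2) (by simp) }

variable (G)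

/-- The additive factors. -/
abbrev A (n : ℕ) : Type u := Additive (Q G n)

/-- The associated Lie ring. -/
abbrev LG : Type u := ⨁ n, A G n

variable {G}

/-- The class of an element in a factor. -/
noncomputable def mkA (n : ℕ) (g : G) : A G n :=
  open Classical in if h : g ∈ γ n then Additive.ofMul (QuotientGroup.mk ⟨g, h⟩) else 0

theorem mkA_mul {n : ℕ} {g h : G} (hg : g ∈ γ n) (hh : h ∈ γ n) : mkA n (g * h) = mkA n g + mkA n h := by
  rw [mkA, mkA, mkA, dif_pos hg, dif_pos hh, dif_pos (mul_mem hg hh)]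
  rfl

theorem mkA_eq_iff {n : ℕ} {g h : G} (hg : g ∈ γ n) (hh : h ∈ γ n) : mkA n g = mkA n h ↔ g⁻¹ * h ∈ γ (n + 1) := by
  rw [mkA, mkA, dif_pos hg, dif_pos hh, Additive.ofMul.apply_eq_iff_eq, QuotientGroup.eq, Subgroup.mem_subgroupOf]
  rfl

theorem mkA_eq_zero_iff {n : ℕ} {g : G} (hg : g ∈ γ n) : mkA n g = 0 ↔ g ∈ γ (n + 1) := by
  rw [mkA, dif_pos hg, ofMul_eq_zero, QuotientGroup.eq_one_iff, Subgroup.mem_subgroupOf]

theorem mkA_surj {n : ℕ} (a : A G n) : ∃ g ∈ γ n, mkA n g = a := by
  obtain ⟨⟨g, hg⟩, h⟩ := QuotientGroup.mk_surjective (Additive.toMul a)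
  exact ⟨g, hg, by rw [mkA, dif_pos hg, h]; rfl⟩

/-- Lifting a map to a factor. -/
noncomputable def liftA {M : Type*} [AddCommGroup M] (n : ℕ) (f : G → M)
    (hmul : ∀ g ∈ γ n, ∀ h ∈ γ n, f (g * h) = f g + f h) (hker : ∀ g ∈ γ (n + 1), f g = 0) : A G n →+ M :=
  MonoidHom.toAdditiveLeft <| QuotientGroup.lift _
    (MonoidHom.mk' (fun g : ↥(γ n) => Multiplicative.ofAdd (f g)) (fun g h => by
      rw [Subgroup.coe_mul, hmul g g.2 h h.2, ofAdd_add]))
    (fun g hg => by
      rw [MonoidHom.mem_ker, MonoidHom.mk'_apply, hker g (Subgroup.mem_subgroupOf.mp hg), ofAdd_zero])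

theorem liftA_mkA {M : Type*} [AddCommGroup M] {n : ℕ} {f : G → M}
    {hmul : ∀ g ∈ γ n, ∀ h ∈ γ n, f (g * h) = f g + f h} {hker : ∀ g ∈ γ (n + 1), f g = 0} {g : G}
    (hg : g ∈ γ n) : liftA n f hmul hker (mkA n g) = f g := by
  rw [mkA, dif_pos hg]; rfl

/-- The class of an element in the Lie ring. -/
noncomputable def cls (n : ℕ) (g : G) : LG G := DirectSum.of (A G) n (mkA n g)

theorem cls_mul {n : ℕ} {g h : G} (hg : g ∈ γ n) (hh : h ∈ γ n) : cls n (g * h) = cls n g + cls n h := by
  rw [cls, cls, cls, mkA_mul hg hh, map_add]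

theorem cls_eq_zero {n : ℕ} {g : G} (hg : g ∈ γ (n + 1)) : cls n g = 0 := by
  rw [cls, (mkA_eq_zero_iff (Subgroup.lowerCentralSeries_antitone ⊤ (Nat.le_succ n) hg)).mpr hg, map_zero]

theorem cls_one (n : ℕ) : cls n (1 : G) = 0 := cls_eq_zero (one_mem _)

theorem cls_inv {n : ℕ} {g : G} (hg : g ∈ γ n) : cls n g⁻¹ = -cls n g :=
  eq_neg_of_add_eq_zero_right (by rw [← cls_mul hg (inv_mem hg), mul_inv_cancel, cls_one])

theorem cls_conj {n : ℕ} {g : G} (hg : g ∈ γ n) (t : G) : cls n (t * g * t⁻¹) = cls n g := by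
  have h : ⁅t, g⁆ ∈ γ (n + 1) := comm_mem (i := 0) (j := n) (by omega) (by simp) hg
  rw [show t * g * t⁻¹ = ⁅t, g⁆ * g by rw [commutatorElement_def]; group,
    cls_mul (Subgroup.lowerCentralSeries_antitone ⊤ (Nat.le_succ n) h) hg, cls_eq_zero h, zero_add]

/-- The bracket of two factors, first argument fixed. -/
noncomputable def bInner (i j : ℕ) (x : G) : A G j →+ LG G :=
  open Classical in
  if hx : x ∈ γ i then
    liftA j (fun y => cls (i + j + 1) ⁅x, y⁆)
      (fun g hg h hh => by
        have h1 : g * ⁅x, h⁆ * g⁻¹ ∈ γ (i + j + 1) :=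
          (inferInstance : (γ (i + j + 1)).Normal).conj_mem _ (comm_mem rfl hx hh) g
        rw [commutatorElement_mul_right_eq_mul_conj,
          show ⁅x, g⁆ * g * ⁅x, h⁆ * g⁻¹ = ⁅x, g⁆ * (g * ⁅x, h⁆ * g⁻¹) by group,
          cls_mul (comm_mem rfl hx hg) h1, cls_conj (comm_mem rfl hx hh)])
      (fun g hg => cls_eq_zero (comm_mem (by omega) hx hg))
  else 0

theorem bInner_mkA {i j : ℕ} {x y : G} (hx : x ∈ γ i) (hy : y ∈ γ j) :
    bInner i j x (mkA j y) = cls (i + j + 1) ⁅x, y⁆ := by
  rw [bInner, dif_pos hx, liftA_mkA hy]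

/-- The bracket of two factors. -/
noncomputable def bOuter (i j : ℕ) : A G i →+ A G j →+ LG G :=
  liftA i (bInner i j)
    (fun g hg h hh => AddMonoidHom.ext fun a => by
      obtain ⟨y, hy, rfl⟩ := mkA_surj a
      rw [AddMonoidHom.add_apply, bInner_mkA (mul_mem hg hh) hy, bInner_mkA hg hy, bInner_mkA hh hy,
        commutatorElement_mul_left_eq_conj_mul,
        cls_mul ((inferInstance : (γ (i + j + 1)).Normal).conj_mem _ (comm_mem rfl hh hy) g) (comm_mem rfl hg hy),
        cls_conj (comm_mem rfl hh hy), add_comm])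
    (fun g hg => AddMonoidHom.ext fun a => by
      obtain ⟨y, hy, rfl⟩ := mkA_surj a
      rw [bInner_mkA (Subgroup.lowerCentralSeries_antitone ⊤ (Nat.le_succ i) hg) hy]
      exact cls_eq_zero (comm_mem (by omega) hg hy))

/-- The bracket. -/
noncomputable def bk : LG G →+ LG G →+ LG G :=
  DirectSum.toAddMonoid fun i => (DirectSum.toAddMonoid fun j => (bOuter i j).flip).flip

theorem bk_cls {i j : ℕ} {x y : G} (hx : x ∈ γ i) (hy : y ∈ γ j) :
    bk (cls i x) (cls j y) = cls (i + j + 1) ⁅x, y⁆ := by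
  rw [bk, cls, DirectSum.toAddMonoid_of, AddMonoidHom.flip_apply, cls, DirectSum.toAddMonoid_of,
    AddMonoidHom.flip_apply, bOuter, liftA_mkA hx, bInner_mkA hx hy]

theorem LG.induction {P : LG G → Prop} (x : LG G) (zero : P 0) (hcls : ∀ n g, g ∈ γ n → P (cls n g))
    (add : ∀ a b, P a → P b → P (a + b)) : P x := by
  induction x using DirectSum.induction_on with
  | zero => exact zero
  | of n a => obtain ⟨g, hg, rfl⟩ := mkA_surj a; exact hcls n g hg
  | add a b ha hb => exact add a b ha hb

theorem bk_skew (a b : LG G) : bk a b + bk b a = 0 := by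
  induction a using LG.induction with
  | zero => simp
  | hcls i x hx =>
    induction b using LG.induction with
    | zero => simp
    | hcls j y hy =>
      rw [bk_cls hx hy, bk_cls hy hx, show j + i + 1 = i + j + 1 by omega, ← commutatorElement_inv x y,
        cls_inv (comm_mem rfl hx hy), add_neg_cancel]
    | add c d hc hd =>
      rw [map_add, map_add, AddMonoidHom.add_apply, add_add_add_comm, hc, hd, add_zero]
  | add c d hc hd =>
    rw [map_add, map_add, AddMonoidHom.add_apply, add_add_add_comm, hc, hd, add_zero]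

theorem bk_self (a : LG G) : bk a a = 0 := by
  induction a using LG.induction with
  | zero => simp
  | hcls i x hx => rw [bk_cls hx hx, commutatorElement_self, cls_one]
  | add c d hc hd =>
    have h := bk_skew c d
    simp only [map_add, AddMonoidHom.add_apply, hc, hd, zero_add, add_zero]
    rw [add_comm]
    exact h

theorem bk_bk_cls {i j k n : ℕ} (hn : i + j + k + 2 = n) {x y z : G} (hx : x ∈ γ i) (hy : y ∈ γ j) (hz : z ∈ γ k) :
    bk (bk (cls i x) (cls j y)) (cls k z) = cls n ⁅⁅x, y⁆, z⁆ ∧ ⁅⁅x, y⁆, z⁆ ∈ γ n := by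
  refine ⟨?_, comm_mem (by omega) (comm_mem rfl hx hy) hz⟩
  rw [bk_cls hx hy, bk_cls (comm_mem rfl hx hy) hz, show i + j + 1 + k + 1 = n by omega]

theorem bk_jacobi (a b c : LG G) : bk (bk a b) c + bk (bk c a) b + bk (bk b c) a = 0 := by
  induction a using LG.induction with
  | zero => simp
  | hcls i x hx =>
    induction b using LG.induction with
    | zero => simp
    | hcls j y hy =>
      induction c using LG.induction with
      | zero => simp
      | hcls k z hz =>
        obtain ⟨h1, m1⟩ := bk_bk_cls (n := i + j + k + 2) rfl (inv_mem hx) hy hz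
        obtain ⟨h2, m2⟩ := bk_bk_cls (n := i + j + k + 2) (by omega) (inv_mem hz) hx hy
        obtain ⟨h3, m3⟩ := bk_bk_cls (n := i + j + k + 2) (by omega) (inv_mem hy) hz hx
        rw [cls_inv hx] at h1
        rw [cls_inv hz] at h2
        rw [cls_inv hy] at h3
        simp only [map_neg, AddMonoidHom.neg_apply] at h1 h2 h3
        haveI hN : (γ (i + j + k + 2)).Normal := inferInstance
        have h := congrArg (cls (i + j + k + 2)) (conj_commutatorElement_left_commutatorElement_mul x y z)
        rw [cls_one, show x * ⁅⁅x⁻¹, y⁆, z⁆ * x⁻¹ * z * ⁅⁅z⁻¹, x⁆, y⁆ * z⁻¹ * y * ⁅⁅y⁻¹, z⁆, x⁆ * y⁻¹ =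
            x * ⁅⁅x⁻¹, y⁆, z⁆ * x⁻¹ * (z * ⁅⁅z⁻¹, x⁆, y⁆ * z⁻¹) * (y * ⁅⁅y⁻¹, z⁆, x⁆ * y⁻¹) by group,
          cls_mul (mul_mem (hN.conj_mem _ m1 x) (hN.conj_mem _ m2 z)) (hN.conj_mem _ m3 y),
          cls_mul (hN.conj_mem _ m1 x) (hN.conj_mem _ m2 z), cls_conj m1, cls_conj m2, cls_conj m3,
          ← h1, ← h2, ← h3] at h
        rw [← neg_eq_zero, neg_add, neg_add]
        exact h
      | add c d hc hd =>
        simp only [map_add, AddMonoidHom.add_apply]
        rw [← add_zero (0 : LG G)]
        nth_rewrite 1 [← hc]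
        nth_rewrite 1 [← hd]
        abel
    | add b d hb hd =>
      simp only [map_add, AddMonoidHom.add_apply]
      rw [← add_zero (0 : LG G)]
      nth_rewrite 1 [← hb]
      nth_rewrite 1 [← hd]
      abel
  | add a d ha hd =>
    simp only [map_add, AddMonoidHom.add_apply]
    rw [← add_zero (0 : LG G)]
    nth_rewrite 1 [← ha]
    nth_rewrite 1 [← hd]
    abel

noncomputable instance : Bracket (LG G) (LG G) := ⟨fun a b => bk a b⟩

theorem lie_def (a b : LG G) : ⁅a, b⁆ = bk a b := rfl

noncomputable instance : LieRing (LG G) where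
  add_lie a b c := by simp [lie_def]
  lie_add a b c := by simp [lie_def]
  lie_self a := bk_self a
  leibniz_lie a b c := by
    simp only [lie_def]
    have h := bk_jacobi a b c
    rw [eq_neg_of_add_eq_zero_left (bk_skew a (bk b c)), eq_neg_of_add_eq_zero_left (bk_skew b (bk a c)),
      show bk a c = -bk c a from eq_neg_of_add_eq_zero_left (bk_skew a c), map_neg, AddMonoidHom.neg_apply,
      neg_neg, neg_eq_iff_eq_neg, eq_neg_iff_add_eq_zero, ← h]
    abel

/-- The action of an automorphism on a factor. -/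
noncomputable def autA (α : MulAut G) (n : ℕ) : A G n →+ A G n :=
  liftA n (fun g => mkA n (α g))
    (fun g hg h hh => by rw [map_mul, mkA_mul (aut_mem α hg) (aut_mem α hh)])
    (fun g hg => (mkA_eq_zero_iff (Subgroup.lowerCentralSeries_antitone ⊤ (Nat.le_succ n) (aut_mem α hg))).mpr
      (aut_mem α hg))
where
  aut_mem (α : MulAut G) {m : ℕ} {g : G} (hg : g ∈ γ m) : α g ∈ γ m := by
    have := Subgroup.characteristic_iff_map_eq.mp (inferInstance : (γ m).Characteristic) α
    rw [← this]
    exact Subgroup.mem_map_of_mem _ hg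

/-- The action of an automorphism on the Lie ring. -/
noncomputable def autL (α : MulAut G) : LG G →+ LG G := DirectSum.map (autA α)

theorem autL_cls (α : MulAut G) {n : ℕ} {g : G} (hg : g ∈ γ n) : autL α (cls n g) = cls n (α g) := by
  rw [autL, cls, DirectSum.map_of, autA, liftA_mkA hg]
  rfl

theorem autL_lie (α : MulAut G) (a b : LG G) : autL α ⁅a, b⁆ = ⁅autL α a, autL α b⁆ := by
  simp only [lie_def]
  induction a using LG.induction with
  | zero => simp
  | hcls i x hx =>
    induction b using LG.induction with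
    | zero => simp
    | hcls j y hy =>
      rw [bk_cls hx hy, autL_cls α (comm_mem rfl hx hy), autL_cls α hx, autL_cls α hy,
        bk_cls (autA.aut_mem α hx) (autA.aut_mem α hy), map_commutatorElement]
    | add c d hc hd => simp only [map_add, hc, hd]
  | add c d hc hd => simp only [map_add, AddMonoidHom.add_apply, hc, hd]

theorem autL_iterate (α : MulAut G) (m : ℕ) {n : ℕ} {g : G} (hg : g ∈ γ n) :
    (autL α)^[m] (cls n g) = cls n ((α ^ m) g) ∧ (α ^ m) g ∈ γ n := by
  induction m with
  | zero => exact ⟨rfl, hg⟩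
  | succ m ih =>
    rw [Function.iterate_succ_apply', ih.1, autL_cls α ih.2, pow_succ', MulAut.mul_apply]
    exact ⟨rfl, autA.aut_mem α ih.2⟩

variable [Finite G]

theorem autL_fixed (α : MulAut G) (hfix : ∀ g, α g = g → g = 1) (a : LG G) (ha : autL α a = a) : a = 0 := by
  refine DFinsupp.ext fun n => ?_
  have h := congrArg (fun f : LG G => f n) ha
  simp only [autL, DirectSum.map_apply] at h
  obtain ⟨g, hg, hga⟩ := mkA_surj (a n)
  rw [← hga, autA, liftA_mkA hg, mkA_eq_iff (autA.aut_mem α hg) hg] at h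
  rw [← hga]
  refine (mkA_eq_zero_iff hg).mpr ?_
  exact CfsgLib.Frob.fpf_mem_of_coset α.toMonoidHom hfix (γ (n + 1)) (fun m hm => autA.aut_mem α hm) h

theorem card_coprime {p : ℕ} [hp : Fact p.Prime] (α : MulAut G) (hα : α ^ p = 1) (hfix : ∀ g, α g = g → g = 1) :
    (Nat.card G).Coprime p := by
  have hP : IsPGroup p (Subgroup.zpowers α) := by
    rintro ⟨x, i, rfl⟩
    refine ⟨1, Subtype.ext ?_⟩
    rw [pow_one, SubgroupClass.coe_pow, ← zpow_natCast, ← zpow_mul, mul_comm, zpow_mul, zpow_natCast, hα, one_zpow]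
    rfl
  have h := hP.card_modEq_card_fixedPoints G
  have h1 : MulAction.fixedPoints (Subgroup.zpowers α) G = {1} := by
    ext g
    simp only [MulAction.mem_fixedPoints, Set.mem_singleton_iff, Subtype.forall]
    constructor
    · intro hg; exact hfix g (hg α (Subgroup.mem_zpowers α))
    · rintro rfl x _; exact map_one x
  rw [h1, Nat.card_eq_fintype_card (α := ({1} : Set G)), Set.card_singleton] at h
  refine Nat.Coprime.symm ((hp.out.coprime_iff_not_dvd).mpr fun hd => ?_)
  exact hp.out.one_lt.ne' (Nat.dvd_one.mp ((h.dvd_iff dvd_rfl).mp hd))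

theorem torsion_free {p : ℕ} [hp : Fact p.Prime] (h : (Nat.card G).Coprime p) (a : LG G) (ha : p • a = 0) :
    a = 0 := by
  refine DFinsupp.ext fun n => ?_
  have h1 : p • a n = 0 := by rw [← DFinsupp.smul_apply, ha]; rfl
  have h2 : Nat.card (A G n) ∣ Nat.card G :=
    (Subgroup.card_quotient_dvd_card ((γ (n + 1)).subgroupOf (γ n))).trans (Subgroup.card_subgroup_dvd_card _)
  exact AddMonoid.addOrderOf_eq_one_iff.mp (Nat.eq_one_of_dvd_coprimes h
    ((addOrderOf_dvd_natCard (a n)).trans h2) (addOrderOf_dvd_iff_nsmul_eq_zero.mpr h1))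

theorem cls_mem_lcs (k : ℕ) : ∀ g ∈ γ k, cls k g ∈ lcs (LG G) k := by
  induction k with
  | zero => intro g _; exact AddSubgroup.mem_top _
  | succ k ih =>
    intro g hg
    induction hg using Subgroup.closure_induction with
    | mem w hw =>
      obtain ⟨a, ha, b, -, rfl⟩ := hw
      refine AddSubgroup.subset_closure ⟨cls k a, ih a ha, cls 0 b, ?_⟩
      rw [lie_def, bk_cls ha (by simp), add_zero]
    | one => rw [cls_one]; exact zero_mem _
    | mul u v hu hv h1 h2 => rw [cls_mul hu hv]; exact add_mem h1 h2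
    | inv u hu h1 => rw [cls_inv hu]; exact neg_mem h1

theorem class_le {k : ℕ} (hk : lcs (LG G) k = ⊥) [Group.IsNilpotent G] : γ k = ⊥ := by
  have h : γ k ≤ γ (k + 1) := fun g hg => by
    have h1 := cls_mem_lcs k g hg
    rw [hk, AddSubgroup.mem_bot, cls] at h1
    exact (mkA_eq_zero_iff hg).mp (DirectSum.of_injective (β := A G) k (by rw [h1, map_zero]))
  have h2 : ∀ t, γ k ≤ γ (k + t) := by
    intro t
    induction t with
    | zero => exact le_rfl
    | succ t ih =>
      refine h.trans ?_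
      rw [Subgroup.lowerCentralSeries_succ, ← Nat.add_assoc, Subgroup.lowerCentralSeries_succ]
      exact Subgroup.commutator_mono ih le_rfl
  obtain ⟨m, hm⟩ := Subgroup.nilpotent_iff_lowerCentralSeries.mp ‹Group.IsNilpotent G›
  refine le_bot_iff.mp ((h2 m).trans ((Subgroup.lowerCentralSeries_antitone ⊤ (Nat.le_add_left m k)).trans hm.le))

/-- **The class of a group with a fixed-point-free automorphism of prime order.** -/
theorem class_bound {p : ℕ} [hp : Fact p.Prime] (α : MulAut G) (hα : orderOf α = p)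
    (hfix : ∀ g, α g = g → g = 1) :
    γ (∑ i ∈ Finset.range (2 ^ (p - 1) - 1), (p - 1) ^ i) = ⊥ ∧ (p = 3 → γ 2 = ⊥) := by
  haveI := CfsgLib.Frob.isNilpotent_of_fpf_prime α hfix hp.out hα
  have hpow : α ^ p = 1 := hα ▸ pow_orderOf_eq_one α
  have hper : ∀ a : LG G, (autL α)^[p] a = a := fun a => by
    induction a using LG.induction with
    | zero => exact iterate_map_zero (autL α) p
    | hcls n g hg => rw [(autL_iterate α p hg).1, hpow]; rfl
    | add b c hb hc => rw [iterate_map_add, hb, hc]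
  have h := lcs_bound (p := p) (autL α) (autL_lie α) (autL_fixed α hfix) hper
    (torsion_free (card_coprime α hpow hfix))
  exact ⟨class_le h.1, fun h3 => class_le (h.2 h3)⟩

end CfsgLib.LieFpf
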